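import Mathlib
import Cfsg.Agent.Lib.Helper50.FOT.Defs
import Cfsg.Agent.Lib.Helper1.Hall

/-!
# FOT [SYL6]: a finite solvable group never has exactly six Sylow 5-subgroups
-/

set_option autoImplicit false

namespace Cfsg.Agent.Lib.Helper61.FOT

universe u

/-- If `N ⊔ A = ⊤` with `A` normal in a finite group, then `N.index ∣ Nat.card A`. -/
theorem index_dvd_card_of_sup_eq_top {G : Type u} [Group G] [Finite G] (N A : Subgroup G)
    [A.Normal] (h : N ⊔ A = ⊤) : N.index ∣ Nat.card A := by
  have h1 : A.relIndex (N ⊔ A) = A.relIndex N := Subgroup.relIndex_sup_right N A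
  rw [h, Subgroup.relIndex_top_right] at h1
  have h2 : (A ⊓ N).relIndex N * N.index = (A ⊓ N).index :=
    Subgroup.relIndex_mul_index inf_le_right
  have h3 : (A ⊓ N).relIndex A * A.index = (A ⊓ N).index :=
    Subgroup.relIndex_mul_index inf_le_left
  have h4 : (A ⊓ N).relIndex N = A.relIndex N := Subgroup.inf_relIndex_right A N
  have h5 : A.index ≠ 0 := Subgroup.index_ne_zero_of_finite
  have e1 : A.index * N.index = (A ⊓ N).index := by rw [h1, ← h4]; exact h2
  have e2 : A.index * (A ⊓ N).relIndex A = (A ⊓ N).index := by rw [mul_comm]; exact h3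
  have h6 : N.index = (A ⊓ N).relIndex A :=
    Nat.eq_of_mul_eq_mul_left (Nat.pos_of_ne_zero h5) (e1.trans e2.symm)
  rw [h6]
  exact Subgroup.relIndex_dvd_card _ _

theorem syl6_aux (n : ℕ) : ∀ (H : Type u) [Group H] [Finite H], Group.IsSolvable H →
    Nat.card H = n → Nat.card (Sylow 5 H) ≠ 6 := by
  induction n using Nat.strong_induction_on with
  | _ n ih =>
    intro H _ _ hsol hn h6
    haveI : Fact (Nat.Prime 5) := ⟨by norm_num⟩
    obtain ⟨P⟩ : Nonempty (Sylow 5 H) := inferInstance
    have hidx : (Subgroup.normalizer (P : Set H)).index = 6 := by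
      rw [← Sylow.card_eq_index_normalizer P]; exact h6
    haveI : Nontrivial H := by
      rw [← Finite.one_lt_card_iff_nontrivial]
      have := Nat.le_of_dvd Nat.card_pos
        (Subgroup.index_dvd_card (Subgroup.normalizer (P : Set H)))
      omega
    haveI := hsol
    obtain ⟨A, q, k, hAn, -, hq, hk, hA⟩ := Cfsg.Agent.Lib.Helper1.exists_minNormal_pGroup H
    haveI := hAn
    have hcardQ : Nat.card (H ⧸ A) < n := by
      have h1 := Subgroup.card_eq_card_quotient_mul_card_subgroup A
      rw [hn, hA] at h1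
      have h2 : 1 < q ^ k := Nat.one_lt_pow hk.ne' hq.one_lt
      have h3 : 0 < Nat.card (H ⧸ A) := Nat.card_pos
      nlinarith
    have hsolQ : Group.IsSolvable (H ⧸ A) := inferInstance
    have hQ6 := ih _ hcardQ (H ⧸ A) hsolQ rfl
    have hsurj := Sylow.mapSurjective_surjective (QuotientGroup.mk'_surjective A) 5
    have hle : Nat.card (Sylow 5 (H ⧸ A)) ≤ Nat.card (Sylow 5 H) :=
      Nat.card_le_card_of_surjective _ hsurj
    have hmod : Nat.card (Sylow 5 (H ⧸ A)) ≡ 1 [MOD 5] := card_sylow_modEq_one 5 (H ⧸ A)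
    have hone : Nat.card (Sylow 5 (H ⧸ A)) = 1 := by
      have : Nat.card (Sylow 5 (H ⧸ A)) % 5 = 1 := hmod
      omega
    set Pb : Sylow 5 (H ⧸ A) := P.mapSurjective (QuotientGroup.mk'_surjective A) with hPb
    haveI : Subsingleton (Sylow 5 (H ⧸ A)) := (Nat.card_eq_one_iff_unique.mp hone).1
    have hPbn : (Pb : Subgroup (H ⧸ A)).Normal := Sylow.normal_of_subsingleton Pb
    set M : Subgroup H := (Pb : Subgroup (H ⧸ A)).comap (QuotientGroup.mk' A) with hM
    haveI hMn : M.Normal := Subgroup.Normal.comap hPbn _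
    have hMeq : M = (P : Subgroup H) ⊔ A := by
      rw [hM, hPb, Sylow.coe_mapSurjective, Subgroup.comap_map_eq, QuotientGroup.ker_mk']
    have hPM : (P : Subgroup H) ≤ M := by rw [hMeq]; exact le_sup_left
    have hfr := Sylow.normalizer_sup_eq_top (P.subtype hPM)
    have hmap : ((P.subtype hPM : Sylow 5 M) : Subgroup M).map M.subtype = (P : Subgroup H) := by
      rw [Sylow.coe_subtype, Subgroup.map_subgroupOf_eq_of_le hPM]
    rw [hmap] at hfr
    have htop : Subgroup.normalizer (P : Set H) ⊔ A = ⊤ := by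
      apply top_unique
      rw [← hfr, hMeq]
      apply sup_le
      · exact le_sup_left
      · apply sup_le
        · exact le_trans Subgroup.le_normalizer le_sup_left
        · exact le_sup_right
    have hdvd := index_dvd_card_of_sup_eq_top _ A htop
    rw [hidx, hA] at hdvd
    have h2 : 2 ∣ q ^ k := dvd_trans (by norm_num) hdvd
    have h3 : 3 ∣ q ^ k := dvd_trans (by norm_num) hdvd
    have h2q : q = 2 :=
      ((Nat.prime_dvd_prime_iff_eq Nat.prime_two hq).mp (Nat.prime_two.dvd_of_dvd_pow h2)).symm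
    have h3q : q = 3 :=
      ((Nat.prime_dvd_prime_iff_eq Nat.prime_three hq).mp (Nat.prime_three.dvd_of_dvd_pow h3)).symm
    omega

/-- **[SYL6]** -/
theorem pkgSyl6 : Cfsg.Agent.Lib.Helper50.FOT.PkgSyl6.{u} := by
  intro H _ _ hsol
  exact syl6_aux (Nat.card H) H hsol rfl

end Cfsg.Agent.Lib.Helper61.FOT
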